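import Cfsg.Agent.TwoLargest.Basic

/-!
If the two largest class sizes `m > n` of a group are coprime, then the group is Frobenius modulo
its centre.
-/

set_option autoImplicit false
set_option linter.style.haveILetI false
set_option linter.unusedSectionVars false

open scoped Pointwise

namespace CfsgLib.TwoLargest

open Subgroup
open scoped IsMulCommutative

universe u

variable {G : Type u} [Group G] [Finite G]

/-- The orbit of `uw`: the counting step. -/
theorem index_mul_gt {q : ℕ} [Fact q.Prime] {T Q : Subgroup G} [T.Normal] [IsMulCommutative T]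
    (hQ : IsPGroup q Q) (hTq : ∀ t ∈ T, (orderOf t).Coprime q) {u s : G} (huQ : u ∈ Q) (hs : s ∈ T)
    (hreg : ∀ g ∈ Q, Commute g s → g ∈ center G) (huc : u ∉ center G) {n : ℕ}
    (hn : (center G).relIndex Q = n) :
    ∃ w ∈ T, Commute u w ∧ (orderOf u).Coprime (orderOf w) ∧ n < k (u * w) := by
  classical
  haveI := Fintype.ofFinite T
  let act : G →* MulAut T := MulAut.conjNormal
  let s₀ : T := ⟨s, hs⟩
  set o := orderOf u with ho
  let ν : T := ∏ i ∈ Finset.range o, act (u ^ i) s₀
  let φ : T →* T :=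
    { toFun := fun t => act u t * t⁻¹
      map_one' := by simp
      map_mul' := fun a b => by rw [map_mul, mul_inv, mul_mul_mul_comm] }
  have hqo : ∀ g ∈ Q, ∃ e, orderOf g = q ^ e := fun g hg => by
    obtain ⟨e, he⟩ := IsPGroup.iff_orderOf.1 hQ ⟨g, hg⟩
    exact ⟨e, by rw [← he]; exact (Subgroup.orderOf_mk g hg).symm⟩
  have hTcop : ∀ g ∈ Q, ∀ t ∈ T, (orderOf g).Coprime (orderOf t) := fun g hg t ht => by
    obtain ⟨e, he⟩ := hqo g hg
    exact he ▸ ((hTq t ht).symm.pow_left e)
  have hTQ : ∀ z ∈ T, z ∈ Q → z = 1 := fun z hzT hzQ =>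
    orderOf_eq_one_iff.1 (Nat.eq_one_of_dvd_coprimes (hTcop z hzQ z hzT) dvd_rfl dvd_rfl)
  have hfix : ∀ (g : G) (t : T), act g t = t ↔ Commute g (t : G) := fun g t => by
    rw [Subtype.ext_iff, MulAut.conjNormal_apply, mul_inv_eq_iff_eq_mul]
    rfl
  have hνu : act u ν = ν := by
    have h1 : ∀ i : ℕ, act u (act (u ^ i) s₀) = act (u ^ (i + 1)) s₀ := fun i => by
      rw [pow_succ', map_mul, MulAut.mul_apply]
    have h2 := (Finset.prod_range_succ (fun i => act (u ^ i) s₀) o).symm.trans
      (Finset.prod_range_succ' (fun i => act (u ^ i) s₀) o)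
    simp only [pow_zero] at h2
    rw [show u ^ o = 1 from pow_orderOf_eq_one u] at h2
    simp only [ν]
    rw [map_prod, Finset.prod_congr rfl fun i _ => h1 i]
    exact (mul_right_cancel h2).symm
  set R := Q ⊓ C u ⊓ C (ν : G) with hR
  have hker : ∀ t : T, t ∈ φ.ker ↔ Commute u (t : G) := fun t => by
    rw [MonoidHom.mem_ker, ← hfix]
    exact mul_inv_eq_one
  refine ⟨ν, ν.2, (hfix u ν).1 hνu, hTcop u huQ ν ν.2, ?_⟩
  -- only central elements of `R` fix `φ s₀`
  have hsemi : ∀ g ∈ R, act g (φ s₀) = φ s₀ → g ∈ center G := by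
    intro g hg hgf
    obtain ⟨⟨hgQ, hgu⟩, hgν⟩ : (g ∈ Q ∧ g ∈ C u) ∧ g ∈ C (ν : G) :=
      ⟨Subgroup.mem_inf.1 (Subgroup.mem_inf.1 hg).1, (Subgroup.mem_inf.1 hg).2⟩
    have hcomm : ∀ (i : ℕ) (t : T), act (u ^ i) (act g t) = act g (act (u ^ i) t) := fun i t => by
      rw [← MulAut.mul_apply, ← map_mul, ((mem_C.1 hgu).pow_left i).eq, map_mul, MulAut.mul_apply]
    set d := act g s₀ * s₀⁻¹ with hd
    have hdu : act u d = d := by
      have h1 : φ (act g s₀) = φ s₀ := by
        show act u (act g s₀) * (act g s₀)⁻¹ = φ s₀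
        have h2 := hcomm 1 s₀
        rw [pow_one] at h2
        rw [h2, ← map_inv, ← map_mul]
        exact hgf
      have h3 : φ d = 1 := by rw [hd, map_mul, map_inv, h1, mul_inv_cancel]
      exact mul_inv_eq_one.1 h3
    have hνd : ∏ i ∈ Finset.range o, act (u ^ i) d = 1 := by
      simp only [hd, map_mul, map_inv, Finset.prod_mul_distrib, Finset.prod_inv_distrib]
      rw [Finset.prod_congr rfl fun i _ => hcomm i s₀, ← map_prod]
      show act g ν * ν⁻¹ = 1
      rw [(hfix g ν).2 (mem_C.1 hgν).symm, mul_inv_cancel]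
    have hui : ∀ i : ℕ, act (u ^ i) d = d := fun i => by
      induction i with
      | zero => simp
      | succ i ih =>
        show (act (u ^ (i + 1))) d = d
        rw [pow_succ, show act (u ^ i * u) = act (u ^ i) * act u from map_mul act _ _,
          MulAut.mul_apply, hdu, ih]
    rw [Finset.prod_congr rfl fun i _ => hui i, Finset.prod_const, Finset.card_range] at hνd
    have hd1 : d = 1 := Subtype.ext (orderOf_eq_one_iff.1 (Nat.eq_one_of_dvd_coprimes
      (hTcop u huQ d d.2) (orderOf_dvd_of_pow_eq_one (congrArg Subtype.val hνd)) dvd_rfl))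
    exact hreg g hgQ ((hfix g s₀).1 (mul_inv_eq_one.1 hd1))
  have hφ1 : φ s₀ ≠ 1 := fun e =>
    huc (hreg u huQ ((hker s₀).1 (MonoidHom.mem_ker.2 e)))
  -- `R` has fewer elements than `I × (Q ∩ Z)`
  set Z₀ := center G ⊓ Q with hZ₀
  have hRI : ∀ g ∈ R, act g (φ s₀) ∈ φ.range ∧ act g (φ s₀) ≠ 1 := by
    intro g hg
    have hgu : g ∈ C u := (Subgroup.mem_inf.1 (Subgroup.mem_inf.1 hg).1).2
    refine ⟨⟨act g s₀, ?_⟩, fun e => hφ1 ((map_eq_one_iff _ (act g).injective).1 e)⟩
    show act u (act g s₀) * (act g s₀)⁻¹ = act g (φ s₀)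
    show _ = act g (act u s₀ * s₀⁻¹)
    rw [map_mul, map_inv, ← MulAut.mul_apply, ← map_mul, (mem_C.1 hgu).eq, map_mul,
      MulAut.mul_apply]
  let f : R → {i : φ.range // i ≠ 1} := fun g =>
    ⟨⟨act (g : G) (φ s₀), (hRI g g.2).1⟩, fun e => (hRI g g.2).2 (congrArg Subtype.val e)⟩
  haveI : Nonempty R := ⟨1⟩
  have hσ : ∀ g : R, (g : G) * ((Function.invFun f (f g) : R) : G)⁻¹ ∈ Z₀ := by
    intro g
    set g' := Function.invFun f (f g) with hg'
    have he : f g' = f g := Function.invFun_eq ⟨g, rfl⟩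
    have he' : act (g' : G) (φ s₀) = act (g : G) (φ s₀) :=
      congrArg (fun z : {i : φ.range // i ≠ 1} => ((z : φ.range) : T)) he
    have h1 : (g : G)⁻¹ * g' ∈ center G := hsemi _ (mul_mem (inv_mem g.2) g'.2) (by
      rw [map_mul, MulAut.mul_apply, he', ← MulAut.mul_apply, ← map_mul, inv_mul_cancel, map_one,
        MulAut.one_apply])
    refine Subgroup.mem_inf.2 ⟨?_, mul_mem (Subgroup.mem_inf.1 (Subgroup.mem_inf.1 g.2).1).1
      (inv_mem (Subgroup.mem_inf.1 (Subgroup.mem_inf.1 g'.2).1).1)⟩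
    have h2 := (inferInstance : (center G).Normal).conj_mem _ (inv_mem h1) (g : G)
    simpa [mul_assoc] using h2
  have hRlt : Nat.card R ≤ (Nat.card φ.range - 1) * Nat.card Z₀ := by
    refine le_trans (Nat.card_le_card_of_injective
      (fun g => ((f g, ⟨_, hσ g⟩) : {i : φ.range // i ≠ 1} × Z₀)) ?_) (le_of_eq ?_)
    · intro a b e
      have e1 : f a = f b := congrArg Prod.fst e
      have e2 : (a : G) * ((Function.invFun f (f a) : R) : G)⁻¹ =
          (b : G) * ((Function.invFun f (f b) : R) : G)⁻¹ :=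
        congrArg (fun z : {i : φ.range // i ≠ 1} × Z₀ => (z.2 : G)) e
      rw [e1] at e2
      exact Subtype.ext (mul_right_cancel e2)
    · haveI := Fintype.ofFinite φ.range
      rw [Nat.card_prod, Nat.card_eq_fintype_card (α := {i : φ.range // i ≠ 1}),
        Fintype.card_subtype_compl, Fintype.card_subtype_eq,
        Nat.card_eq_fintype_card (α := φ.range)]
  have hQn : Nat.card Q = n * Nat.card Z₀ := by
    have h1 := (Z₀.subgroupOf Q).card_mul_index
    rw [Nat.card_congr (Subgroup.subgroupOfEquivOfLe inf_le_right).toEquiv, ← Subgroup.relIndex,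
      hZ₀, Subgroup.inf_relIndex_right, hn] at h1
    rw [← h1, mul_comm]
  have hT : Nat.card T = Nat.card φ.range * Nat.card φ.ker := by
    rw [Subgroup.card_eq_card_quotient_mul_card_subgroup φ.ker,
      Nat.card_congr (QuotientGroup.quotientKerEquivRange φ).toEquiv]
  have hTQd : T ⊓ Q = ⊥ := (Subgroup.eq_bot_iff_forall _).2 fun z hz =>
    hTQ z (Subgroup.mem_inf.1 hz).1 (Subgroup.mem_inf.1 hz).2
  have hsup : Nat.card ↥(Q ⊔ T) = Nat.card Q * Nat.card T :=
    Solvable.card_sup_of_disjoint (by rw [Subgroup.normalizer_eq_top T]; exact le_top)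
      (by rw [inf_comm]; exact hTQd)
  -- the stabilizer of `u ν` in `TQ`
  have hD : Nat.card ↥((Q ⊔ T) ⊓ C (u * (ν : G))) ≤ Nat.card R * Nat.card φ.ker := by
    have hdec : ∀ z : ↥((Q ⊔ T) ⊓ C (u * (ν : G))), ∃ p : R × φ.ker,
        (z : G) = (p.1 : G) * ((p.2 : T) : G) := by
      rintro ⟨z, hz⟩
      obtain ⟨hz1, hz2⟩ := Subgroup.mem_inf.1 hz
      obtain ⟨g, hg, t, ht, rfl⟩ := Subgroup.mem_sup_of_normal_right.1 hz1
      rw [C_mul ((hfix u ν).1 hνu) (hTcop u huQ ν ν.2)] at hz2
      obtain ⟨hu', hν'⟩ := Subgroup.mem_inf.1 hz2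
      have hu'' : Commute u (g * t) := mem_C.1 hu'
      have hgu : g⁻¹ * u * g * u⁻¹ = 1 := by
        refine hTQ _ ?_ (mul_mem (mul_mem (mul_mem (inv_mem hg) huQ) hg) (inv_mem huQ))
        have : g⁻¹ * u * g * u⁻¹ = t * (u * t⁻¹ * u⁻¹) := by
          have e := hu''.eq
          calc g⁻¹ * u * g * u⁻¹ = g⁻¹ * (u * (g * t)) * t⁻¹ * u⁻¹ := by group
            _ = g⁻¹ * (g * t * u) * t⁻¹ * u⁻¹ := by rw [e]
            _ = t * (u * t⁻¹ * u⁻¹) := by group
        rw [this]
        exact mul_mem ht ((inferInstance : T.Normal).conj_mem _ (inv_mem ht) u)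
      have hgu' : Commute u g := by
        have h1 : g⁻¹ * (u * g) = u := by rw [← mul_assoc]; exact mul_inv_eq_one.1 hgu
        exact inv_mul_eq_iff_eq_mul.1 h1
      have htu : Commute u t := by
        have h1 := hgu'.inv_right.mul_right hu''
        rwa [inv_mul_cancel_left] at h1
      have htν : Commute (ν : G) t := congrArg Subtype.val (mul_comm' ν ⟨t, ht⟩)
      have hgν : Commute (ν : G) g := by
        have h1 := (mem_C.1 hν').mul_right htν.inv_right
        rwa [mul_inv_cancel_right] at h1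
      exact ⟨(⟨g, Subgroup.mem_inf.2 ⟨Subgroup.mem_inf.2 ⟨hg, mem_C.2 hgu'⟩, mem_C.2 hgν⟩⟩,
        ⟨⟨t, ht⟩, (hker ⟨t, ht⟩).2 htu⟩), rfl⟩
    choose p hp using hdec
    rw [← Nat.card_prod]
    exact Nat.card_le_card_of_injective p fun a b e => Subtype.ext (by rw [hp a, hp b, e])
  have hidx : Nat.card ↥(Q ⊔ T) ≤
      Nat.card ↥((Q ⊔ T) ⊓ C (u * (ν : G))) * k (u * (ν : G)) := by
    have h1 := ((C (u * (ν : G))).subgroupOf (Q ⊔ T)).card_mul_index
    have h2 : Nat.card ↥((C (u * (ν : G))).subgroupOf (Q ⊔ T)) =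
        Nat.card ↥((Q ⊔ T) ⊓ C (u * (ν : G))) := by
      rw [← Subgroup.inf_subgroupOf_right, inf_comm,
        Nat.card_congr (Subgroup.subgroupOfEquivOfLe inf_le_left).toEquiv]
    rw [← h1, h2]
    refine Nat.mul_le_mul le_rfl ?_
    have h3 := Subgroup.relIndex_le_of_le_right (H := C (u * (ν : G))) (le_top : Q ⊔ T ≤ ⊤)
      (by rw [Subgroup.relIndex_top_right]; exact Subgroup.index_ne_zero_of_finite)
    rwa [Subgroup.relIndex_top_right] at h3
  rw [hsup, hQn, hT] at hidx
  have hI : 1 ≤ Nat.card φ.range := Nat.card_pos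
  have hKpos : 0 < Nat.card φ.ker := Nat.card_pos
  have hZpos : 0 < Nat.card Z₀ := Nat.card_pos
  by_contra hle
  push Not at hle
  have hn0 : 0 < n := hn ▸ Nat.pos_of_ne_zero Subgroup.index_ne_zero_of_finite
  have h1 := hidx.trans (Nat.mul_le_mul (hD.trans (Nat.mul_le_mul hRlt le_rfl)) hle)
  have h2 : (Nat.card φ.range - 1) * Nat.card Z₀ * Nat.card φ.ker * n <
      n * Nat.card Z₀ * (Nat.card φ.range * Nat.card φ.ker) := by
    obtain ⟨j, hj⟩ := Nat.exists_eq_add_of_le hI
    rw [hj, Nat.add_sub_cancel_left]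
    nlinarith [Nat.mul_pos (Nat.mul_pos hn0 hZpos) hKpos]
  omega

/-- The hypotheses. -/
structure Top (G : Type u) [Group G] (m n : ℕ) : Prop where
  hmn : n < m
  hn : 1 < n
  hcop : m.Coprime n
  htop : ∀ z : G, k z ≤ m
  hsecond : ∀ z : G, k z < m → k z ≤ n

variable {m n : ℕ} (S : Top G m n) {x y : G} (hx : k x = n) (hy : k y = m)
include S

omit [Finite G] in
theorem Top.le_n {z : G} (h : k z ≠ m) : k z ≤ n := S.hsecond z (lt_of_le_of_ne (S.htop z) h)

include hx hy

theorem commute_conj_of_coprime {a : G} (ha : (k a).Coprime m) (g : G) :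
    Commute a (g * a * g⁻¹) :=
  commute_conj (b := y) (hy.symm ▸ ha) (hy.symm ▸ S.htop _) g

theorem central_of_coprime_top {a : G} (ha : (k a).Coprime m) (ho : (orderOf a).Coprime m) :
    a ∈ center G :=
  central_of_coprime (b := y) (hy.symm ▸ ha) (hy.symm ▸ S.htop _) (hy.symm ▸ ho)

theorem central_of_coprime_second {v : G} (hv : (k v).Coprime n) (hvm : k v ≠ m) : v ∈ center G := by
  have hvx : (k v).Coprime (k x) := hx.symm ▸ hv
  have hdvd : k (v * x) ∣ k v * n := by
    have h1 : C v ⊓ C x ≤ C (v * x) := fun z hz => mem_C.2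
      ((mem_C.1 (Subgroup.mem_inf.1 hz).1).mul_left (mem_C.1 (Subgroup.mem_inf.1 hz).2))
    have h2 := Subgroup.index_dvd_of_le h1
    rwa [CoprimeIndex.index_inf hvx, show (C x).index = n from hx] at h2
  have hc : k (v * x) ≠ m := by
    intro e
    rw [e] at hdvd
    have h1 : m ∣ k v := (S.hcop).dvd_of_dvd_mul_right hdvd
    exact hvm (le_antisymm (S.htop v) (Nat.le_of_dvd (k_pos v) h1))
  have hle : k (v * x) ≤ k x := hx.symm ▸ S.le_n hc
  obtain ⟨T, hgen, hT, -, hst⟩ := exists_stabilizer hvx hle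
  have hxco : (k x).Coprime (k y) := by rw [hx, hy]; exact S.hcop.symm
  obtain ⟨T', hgen', hT', -, -⟩ := exists_stabilizer hxco (hy.symm ▸ S.htop _)
  refine Subgroup.mem_center_iff.2 fun g => ?_
  obtain ⟨h, hh⟩ := hst _ (hgen g) x ⟨1, by simp⟩
  have hcm : Commute x (h * x * h⁻¹) := commute_conj hxco (hy.symm ▸ S.htop _) h
  have heq : v⁻¹ * (g * v * g⁻¹) = x⁻¹ * (h * x * h⁻¹) := by
    rw [hcm.inv_left.eq]
    exact eq_mul_inv_of_mul_eq hh.symm
  have h1 : v⁻¹ * (g * v * g⁻¹) = 1 := by
    refine orderOf_eq_one_iff.1 (Nat.eq_one_of_dvd_coprimes S.hcop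
      (hy ▸ ((Subgroup.orderOf_dvd_natCard T' ?_).trans hT'))
      (hx ▸ ((Subgroup.orderOf_dvd_natCard T (hgen g)).trans hT)))
    exact heq.symm ▸ hgen' h
  exact mul_inv_eq_iff_eq_mul.1 ((inv_mul_eq_one.1 h1).symm)

omit hx hy in
theorem not_coprime_n_m_mul {z : G} (h1 : n ∣ k z) (h2 : m ∣ k z) : False := by
  have h := Nat.le_of_dvd (k_pos z) (S.hcop.mul_dvd_of_dvd_of_dvd h2 h1)
  have := S.htop z
  have := S.hn
  have : m * 1 < m * n := Nat.mul_lt_mul_of_pos_left S.hn (by have := S.hmn; omega)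
  omega

/-- A primary part of `y` has the same centralizer. -/
theorem exists_primary_top :
    ∃ (q : ℕ) (y₀ : G), q.Prime ∧ (∃ e, orderOf y₀ = q ^ e) ∧ C y₀ = C y := by
  have hm1 : 1 < m := lt_trans S.hn S.hmn
  by_contra hnone
  push Not at hnone
  have hyc : y ∈ center G := by
    refine mem_of_parts fun r a hr ha hae => ?_
    have hle : C y ≤ C a := fun z hz => mem_C.2 (by
      obtain ⟨i, rfl⟩ := ha
      exact (mem_C.1 hz).zpow_left i)
    refine central_of_coprime_second S hx hy
      (S.hcop.coprime_dvd_left (hy ▸ k_dvd hle)) fun e => ?_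
    obtain ⟨e', he'⟩ := hae
    exact hnone r a hr ⟨e', he'⟩ (C_eq_of_le hle (hy.trans e.symm).le).symm
  have := k_of_center hyc
  omega

theorem main :
    IsMulCommutative (C x) ∧ IsMulCommutative (C y) ∧
    Cfsg.IsFrobeniusComplement ((C y).map (QuotientGroup.mk' (center G))) ∧
    Cfsg.frobeniusKernel ((C y).map (QuotientGroup.mk' (center G))) =
      ((C x).map (QuotientGroup.mk' (center G)) : Set (G ⧸ center G)) := by
  classical
  have hm1 : 1 < m := lt_trans S.hn S.hmn
  have hn1 := S.hn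
  obtain ⟨q, y₀, hq, ⟨e₀, he₀⟩, hC₀⟩ := exists_primary_top S hx hy
  haveI := Fact.mk hq
  have hy₀ : k y₀ = m := by rw [← hy]; exact congrArg Subgroup.index hC₀
  have hy₀c : y₀ ∉ center G := fun hc => by have := k_of_center hc; omega
  have hk_le : ∀ {a b : G}, C a ≤ C b → k b ∣ k a := fun h => k_dvd h
  have hparts_C : ∀ {a z : G}, a ∈ zpowers z → C z ≤ C a := fun {a z} ha w hw => mem_C.2 (by
    obtain ⟨i, rfl⟩ := ha
    exact (mem_C.1 hw).zpow_left i)
  -- elements commuting with a top element, of coprime order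
  have hcoTop : ∀ {t w : G}, k t = m → Commute t w → (orderOf t).Coprime (orderOf w) →
      C t ≤ C w := by
    intro t w ht hc hco
    have h1 : C (t * w) ≤ C t := C_mul hc hco ▸ inf_le_left
    have h2 : C (t * w) = C t := C_eq_of_le h1 (ht.symm ▸ S.htop _)
    rw [C_mul hc hco] at h2
    exact h2 ▸ inf_le_right
  have hdvd_top : ∀ {w : G}, k w ∣ m → w ∉ center G → k w = m := fun {w} hd hwc => by
    by_contra hne
    exact hwc (central_of_coprime_second S hx hy (S.hcop.coprime_dvd_left hd) hne)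
  -- `q` does not divide `m`
  have hqm : ¬ q ∣ m := by
    intro hqm
    have hqn : ¬ q ∣ n := fun h => hq.ne_one (Nat.eq_one_of_dvd_coprimes S.hcop hqm h)
    obtain ⟨g, hg⟩ : ∃ g : G, g * y₀ * g⁻¹ ∈ C x := by
      obtain ⟨P⟩ : Nonempty (Sylow q (C x)) := inferInstance
      obtain ⟨P', hP'⟩ := IsPGroup.exists_le_sylow (G := G) (P := zpowers y₀)
        (IsPGroup.of_card_dvd_pow (n := e₀) (by rw [Nat.card_zpowers, he₀]))
      obtain ⟨P'', hP''⟩ := IsPGroup.exists_le_sylow (G := G) (P := (P : Subgroup (C x)).map (C x).subtype)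
        (P.2.map _)
      have heq : (P'' : Subgroup G) = (P : Subgroup (C x)).map (C x).subtype := by
        refine (P.2.map (C x).subtype).toSylow (fun hd => ?_) |>.is_maximal' P''.2 hP''
        rw [Subgroup.index_map_subtype] at hd
        rcases hq.dvd_mul.1 hd with h | h
        · exact P.not_dvd_index h
        · exact hqn (hx ▸ h)
      obtain ⟨c, hc⟩ := MulAction.exists_smul_eq G P' P''
      refine ⟨c, Subgroup.map_subtype_le (P : Subgroup (C x)) ?_⟩
      rw [← heq, ← hc, Sylow.coe_subgroup_smul, Subgroup.mem_pointwise_smul_iff_inv_smul_mem,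
        MulAut.smul_def, MulAut.inv_def, MulAut.conj_symm_apply]
      simpa [mul_assoc] using hP' (mem_zpowers y₀)
    set y₁ := g * y₀ * g⁻¹ with hy₁
    have hk₁ : k y₁ = m := by rw [hy₁, k_conj]; exact hy₀
    have ho₁ : orderOf y₁ = q ^ e₀ := by
      rw [← he₀, hy₁, ← MulAut.conj_apply]
      exact (MulAut.conj g).orderOf_eq y₀
    have hxy₁ : Commute x y₁ := mem_C.1 hg
    obtain ⟨x₀, x', hxx, hx₀, hx', ⟨f, hf⟩, hx'q⟩ := FGSBSmall.exists_prime_split hq x
    have hx'c : x' ∈ center G := by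
      by_contra hc
      have hcom : Commute x' y₁ := (mem_C.1 (hparts_C hx' hg))
      have hco' : (orderOf x').Coprime (orderOf y₁) := ho₁ ▸ hx'q.pow_right e₀
      have hd : k x' ∣ n := hx ▸ k_dvd (hparts_C hx')
      have h1 := k_dvd_mul_left hcom hco'
      have h2 := k_dvd_mul_right hcom hco'
      rw [hk₁] at h2
      have h3 := Nat.le_of_dvd (k_pos _) ((S.hcop.coprime_dvd_right hd).mul_dvd_of_dvd_of_dvd h2 h1)
      have h4 := S.htop (x' * y₁)
      have h5 : 1 < k x' := lt_of_le_of_ne (k_pos x') fun e => hc (mem_center_of_k e.symm)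
      have : m * 1 < m * k x' := Nat.mul_lt_mul_of_pos_left h5 (by omega)
      omega
    have hCx₀ : C x₀ = C x := by
      refine le_antisymm (fun z hz => mem_C.2 ?_) (hparts_C hx₀)
      rw [← hxx]
      exact (mem_C.1 hz).mul_left (Subgroup.mem_center_iff.1 hx'c z).symm
    have hkx₀ : k x₀ = n := by rw [← hx]; exact congrArg Subgroup.index hCx₀
    obtain ⟨r, hr, hrn⟩ := Nat.exists_prime_and_dvd (n := n) (by omega)
    haveI := Fact.mk hr
    have hrq : r ≠ q := fun e => hqn (e ▸ hrn)
    have hcen : ∀ w ∈ C y₁, (∃ e, orderOf w = r ^ e) → w ∈ center G := by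
      intro w hw ⟨e, he⟩
      by_contra hc
      have hcy : C y₁ ≤ C w := hcoTop hk₁ (mem_C.1 hw)
        (by rw [ho₁, he]; exact ((Nat.coprime_primes hq hr).2 hrq.symm).pow e₀ e)
      have hkw : k w = m := hdvd_top (hk₁ ▸ k_dvd hcy) hc
      have hwe : C y₁ = C w := C_eq_of_le hcy (by rw [hk₁, hkw])
      have hwx : Commute w x₀ := mem_C.1
        (hwe ▸ (mem_C.2 ((mem_C.1 (hCx₀.symm ▸ hg : y₁ ∈ C x₀)).symm)) : x₀ ∈ C w)
      have hco' : (orderOf w).Coprime (orderOf x₀) := by
        rw [he, hf]; exact ((Nat.coprime_primes hr hq).2 hrq).pow e f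
      refine not_coprime_n_m_mul S (z := w * x₀) ?_ ?_
      · exact hkx₀ ▸ k_dvd_mul_right hwx hco'
      · exact hkw ▸ k_dvd_mul_left hwx hco'
    refine not_dvd_relIndex (A := C x) (B := C y₁)
      (fun u hu hue => center_le_C x (hcen u hu hue)) (hrn.trans ?_)
    have h1 := Subgroup.relIndex_mul_index (inf_le_right : C x ⊓ C y₁ ≤ C y₁)
    have hxy : (C x).index.Coprime (C y₁).index := by
      show (k x).Coprime (k y₁)
      rw [hx, hk₁]; exact S.hcop.symm
    rw [Subgroup.inf_relIndex_right, CoprimeIndex.index_inf hxy] at h1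
    rw [← hx]
    exact (Nat.eq_of_mul_eq_mul_right (k_pos y₁) h1).symm ▸ dvd_rfl
  -- the part `s` of `x`
  set N₀ := (n * q) ^ orderOf x with hN₀
  set s := x ^ N₀ with hs
  have hsx : s ∈ zpowers x := pow_mem (mem_zpowers x) _
  have hsord : (orderOf s).Coprime (n * q) := by
    refine Nat.coprime_of_dvd fun r hr hrs hrnq => ?_
    haveI := Fact.mk hr
    rw [hs, orderOf_pow] at hrs
    have h1 : r ^ (orderOf x).factorization r ∣ (orderOf x).gcd N₀ := by
      refine Nat.dvd_gcd (Nat.ordProj_dvd _ _) ?_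
      rw [hN₀]
      exact (pow_dvd_pow r (Nat.factorization_le_of_le_pow (Nat.lt_pow_self hr.one_lt).le)).trans
        (pow_dvd_pow_of_dvd hrnq _)
    have h2 : r ^ ((orderOf x).factorization r + 1) ∣ orderOf x := by
      obtain ⟨c, hc⟩ := hrs
      obtain ⟨d, hd⟩ := h1
      have h3 := Nat.mul_div_cancel' (Nat.gcd_dvd_left (orderOf x) N₀)
      rw [hc, hd] at h3
      refine ⟨d * c, ?_⟩
      generalize (orderOf x).factorization r = v at h3 ⊢
      rw [← h3, pow_succ]
      simp [mul_assoc, mul_comm, mul_left_comm]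
    exact Nat.pow_succ_factorization_not_dvd (orderOf_pos x).ne' hr h2
  have hCs : C s = C x := by
    refine le_antisymm (fun z hz => mem_C.2 ?_) (hparts_C hsx)
    have hmem : x ∈ C z := by
      refine mem_of_parts fun r a hr ha ⟨e, he⟩ => ?_
      by_cases hrm : r ∣ m
      · have hrnq : r.Coprime (n * q) := Nat.Coprime.mul_right
          (Nat.Coprime.coprime_dvd_left hrm S.hcop)
          ((Nat.coprime_primes hr hq).2 fun h => hqm (h ▸ hrm))
        obtain ⟨i, hi⟩ := exists_pow_eq_self_of_coprime (x := a) (n := N₀) (by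
          rw [he, hN₀]
          exact (hrnq.symm.pow _ _))
        obtain ⟨j, rfl⟩ := ha
        refine mem_C.2 ?_
        rw [← hi]
        refine Commute.pow_right ?_ i
        rw [← zpow_natCast, ← zpow_mul, mul_comm, zpow_mul, zpow_natCast]
        exact (mem_C.1 hz).symm.zpow_right j
      · refine center_le_C z (central_of_coprime_top S hx hy
          (Nat.Coprime.coprime_dvd_left (hx ▸ k_dvd (hparts_C ha)) S.hcop.symm) ?_)
        rw [he]
        exact ((hr.coprime_iff_not_dvd.2 hrm).pow_left e)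
    exact (mem_C.1 hmem).symm
  have hks : k s = n := by rw [← hx]; exact congrArg Subgroup.index hCs
  -- `C x ⊓ C y = Z`
  have hXH : ∀ w ∈ C x, w ∈ C y → w ∈ center G := by
    intro w hwx hwy
    refine mem_of_parts fun r a hr ha ⟨e, he⟩ => ?_
    have hax : a ∈ C x := zpowers_le.2 hwx ha
    have hay : a ∈ C y₀ := hC₀.symm ▸ zpowers_le.2 hwy ha
    by_contra hac
    by_cases hrq : r = q
    · subst hrq
      have has : Commute s a := mem_C.1 (hCs.symm ▸ hax)
      have hco : (orderOf s).Coprime (orderOf a) := he ▸ hsord.coprime_mul_left_right.pow_right e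
      have h1 := hks ▸ k_dvd_mul_left has hco
      have h2 : k (s * a) ≠ m := fun h =>
        absurd (Nat.eq_one_of_dvd_coprimes S.hcop (h ▸ h1) dvd_rfl) (by omega)
      have h3 : C (s * a) ≤ C s := C_mul has hco ▸ inf_le_left
      have h4 : C (s * a) = C s := C_eq_of_le h3 (hks.symm ▸ S.le_n h2)
      rw [C_mul has hco] at h4
      have h5 : C x ≤ C a := hCs ▸ h4 ▸ inf_le_right
      refine hac (central_of_coprime_top S hx hy
        (Nat.Coprime.coprime_dvd_left (hx ▸ k_dvd h5) S.hcop.symm) ?_)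
      rw [he]
      exact (hq.coprime_iff_not_dvd.2 hqm).pow_left e
    · have hco : (orderOf y₀).Coprime (orderOf a) := by
        rw [he₀, he]; exact ((Nat.coprime_primes hq hr).2 (Ne.symm hrq)).pow e₀ e
      have h1 := hcoTop hy₀ (mem_C.1 hay) hco
      have h2 : k a = m := hdvd_top (hy₀ ▸ k_dvd h1) hac
      have h3 : C y₀ = C a := C_eq_of_le h1 (by rw [hy₀, h2])
      have hxa : s ∈ C a := mem_C.2 (mem_C.1 (hCs.symm ▸ hax)).symm
      have hsy : Commute s y₀ := (mem_C.1 (h3.symm ▸ hxa)).symm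
      have hco' : (orderOf s).Coprime (orderOf y₀) :=
        he₀ ▸ hsord.coprime_mul_left_right.pow_right e₀
      exact not_coprime_n_m_mul S (hks ▸ k_dvd_mul_left hsy hco')
        (hy₀ ▸ k_dvd_mul_right hsy hco')
  have hxyco : (C x).index.Coprime (C y).index := by
    show (k x).Coprime (k y)
    rw [hx, hy]; exact S.hcop.symm
  have hinf : C x ⊓ C y = center G := le_antisymm
    (fun w hw => hXH w (Subgroup.mem_inf.1 hw).1 (Subgroup.mem_inf.1 hw).2)
    (le_inf (center_le_C x) (center_le_C y))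
  have hZidx : (center G).index = n * m := by
    rw [← hinf, CoprimeIndex.index_inf hxyco, show (C x).index = n from hx,
      show (C y).index = m from hy]
  have hrel : ∀ w : G, (center G).relIndex (C w) * k w = n * m := fun w => by
    rw [← hZidx]; exact Subgroup.relIndex_mul_index (center_le_C w)
  have hnm_not : ∀ {r : ℕ}, r.Prime → r ∣ n → ¬ r ∣ m := fun {r} hr h1 h2 =>
    hr.ne_one (Nat.eq_one_of_dvd_coprimes S.hcop h2 h1)
  -- noncentral `r`-elements, `r ∣ n`, have top class size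
  have hHab : ∀ {r : ℕ} {w : G}, r.Prime → (∃ e, orderOf w = r ^ e) → r ≠ q → w ∈ C y →
      w ∉ center G → C y ≤ C w ∧ k w = m := by
    intro r w hr ⟨e, he⟩ hrq hw hwc
    have h1 := hcoTop hy₀ (mem_C.1 (hC₀.symm ▸ hw)) (by
      rw [he₀, he]; exact ((Nat.coprime_primes hq hr).2 (Ne.symm hrq)).pow e₀ e)
    rw [hC₀] at h1
    exact ⟨h1, hdvd_top (hy ▸ k_dvd h1) hwc⟩
  have hconjH : ∀ {r : ℕ} {u : G}, r.Prime → r ∣ n → (∃ e, orderOf u = r ^ e) →
      ∃ (g : G) (P : Sylow r G), (P : Subgroup G) ≤ C y ∧ g * u * g⁻¹ ∈ (P : Subgroup G) := by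
    intro r u hr hrn ⟨e, he⟩
    haveI := Fact.mk hr
    obtain ⟨P⟩ : Nonempty (Sylow r (C y)) := inferInstance
    let P' : Sylow r G := (P.2.map (C y).subtype).toSylow (fun hd => by
      rw [Subgroup.index_map_subtype] at hd
      rcases hr.dvd_mul.1 hd with h | h
      · exact P.not_dvd_index h
      · exact hnm_not hr hrn (hy ▸ h))
    have hP' : (P' : Subgroup G) = (P : Subgroup (C y)).map (C y).subtype := rfl
    obtain ⟨P'', hP''⟩ := IsPGroup.exists_le_sylow (G := G) (P := zpowers u)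
      (IsPGroup.of_card_dvd_pow (n := e) (by rw [Nat.card_zpowers, he]))
    obtain ⟨c, hc⟩ := MulAction.exists_smul_eq G P'' P'
    refine ⟨c, P', hP' ▸ Subgroup.map_subtype_le _, ?_⟩
    rw [← hc, Sylow.coe_subgroup_smul, Subgroup.mem_pointwise_smul_iff_inv_smul_mem,
      MulAut.smul_def, MulAut.inv_def, MulAut.conj_symm_apply]
    simpa [mul_assoc] using hP'' (mem_zpowers u)
  -- the nonabelian case: `q'`-elements of `C y` are central
  have hq'cen : ¬ IsMulCommutative (C y) → ∀ {r : ℕ} {w : G}, r.Prime →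
      (∃ e, orderOf w = r ^ e) → r ≠ q → w ∈ C y → w ∈ center G := by
    intro hnab r w hr hwe hrq hw
    by_contra hwc
    obtain ⟨h1, h2⟩ := hHab hr hwe hrq hw hwc
    have hCw : C y = C w := C_eq_of_le h1 (by rw [hy, h2])
    refine hnab ⟨⟨fun a b => Subtype.ext ?_⟩⟩
    show (a : G) * b = b * a
    refine ((mem_C.1 (mem_of_parts (H := C (b : G)) (g := (a : G)) fun r' c hr' hc ⟨e', he'⟩ => ?_)).symm).eq
    have hcy : c ∈ C y := zpowers_le.2 a.2 hc
    by_cases hcc : c ∈ center G
    · exact center_le_C _ hcc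
    refine mem_C.2 (Commute.symm ?_)
    by_cases hr'q : r' = q
    · subst hr'q
      obtain ⟨e, he⟩ := hwe
      have := hcoTop h2 (mem_C.1 (hCw ▸ hcy)) (by
        rw [he, he']; exact ((Nat.coprime_primes hr hq).2 hrq).pow e e')
      exact mem_C.1 (this (hCw ▸ b.2))
    · exact mem_C.1 ((hHab hr' ⟨e', he'⟩ hr'q hcy hcc).1 b.2)
  have hcore : ∀ {r : ℕ} {u : G}, r.Prime → r ∣ n → (∃ e, orderOf u = r ^ e) → u ∉ center G →
      k u = m := by
    intro r u hr hrn hue huc
    haveI := Fact.mk hr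
    obtain ⟨g, P, hPy, hgP⟩ := hconjH hr hrn hue
    rw [← k_conj u g]
    set u' := g * u * g⁻¹ with hu'
    have hu'c : u' ∉ center G := fun hc => huc (by
      simpa [hu', mul_assoc] using (inferInstance : (center G).Normal).conj_mem _ hc g⁻¹)
    have hu'e : ∃ e, orderOf u' = r ^ e := by
      obtain ⟨e, he⟩ := hue
      exact ⟨e, by rw [← he, hu', ← MulAut.conj_apply]; exact (MulAut.conj g).orderOf_eq u⟩
    by_cases hab : IsMulCommutative (C y)
    · haveI := hab
      exact hdvd_top (hy ▸ k_dvd fun z hz => mem_C.2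
        (congrArg Subtype.val (mul_comm' (⟨u', hPy hgP⟩ : C y) ⟨z, hz⟩))) hu'c
    by_cases hrq : r = q
    swap
    · exact absurd (hq'cen hab hr hu'e hrq (hPy hgP)) hu'c
    subst hrq
    -- counting
    obtain ⟨T, hTn, hsT, hTc, hTp⟩ := exists_abelian_normal
      (a := s) (fun g => commute_conj_of_coprime S hx hy (hks.symm ▸ S.hcop.symm) g)
    haveI := hTn
    haveI := hTc
    have hTq : ∀ t ∈ T, (orderOf t).Coprime r := fun t ht =>
      (hr.coprime_iff_not_dvd.2 fun hd =>
        hr.ne_one (Nat.eq_one_of_dvd_coprimes hsord.coprime_mul_left_right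
          (hTp r hr (hd.trans (Subgroup.orderOf_dvd_natCard T ht))) dvd_rfl)).symm
    have hPn : (center G).relIndex (P : Subgroup G) = n := by
      have hsup : (P : Subgroup G) ⊔ center G = C y := by
        refine le_antisymm (sup_le hPy (center_le_C y)) (Subgroup.relIndex_eq_one.1 ?_)
        refine Nat.eq_one_iff_not_exists_prime_dvd.2 fun r' hr' hd => ?_
        haveI := Fact.mk hr'
        by_cases hr'q : r' = r
        · subst hr'q
          exact P.not_dvd_index (hd.trans
            ((Subgroup.relIndex_dvd_index_of_le (sup_le hPy (center_le_C y))).trans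
              (Subgroup.index_dvd_of_le le_sup_left)))
        · exact not_dvd_relIndex
            (fun a ha hae => mem_sup_right (hq'cen hab hr' hae hr'q ha)) hd
      have h1 : (center G).relIndex (C y) = n := by
        have := hrel y
        rw [show k y = m from hy] at this
        exact Nat.eq_of_mul_eq_mul_right (by omega) this
      rw [← hsup, Subgroup.relIndex_sup_right] at h1
      exact h1
    obtain ⟨w, hwT, huw, hco, hgt⟩ := index_mul_gt P.2 hTq hgP hsT (fun v hv hvs =>
      hXH v (hCs ▸ mem_C.2 hvs.symm) (hPy hv)) hu'c hPn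
    have hk : k (u' * w) = m := by
      by_contra hne
      exact absurd (S.le_n hne) (not_le.2 hgt)
    exact hdvd_top (hk ▸ k_dvd_mul_left huw hco) hu'c
  -- `r`-elements commuting with noncentral `n'`-elements
  have hrelm : ∀ {w : G}, k w = m → (center G).relIndex (C w) = n := fun {w} hw => by
    have := hrel w
    rw [hw] at this
    exact Nat.eq_of_mul_eq_mul_right (by omega) this
  have hrcen : ∀ {g : G}, (orderOf g).Coprime n → g ∉ center G → ∀ {r : ℕ}, r.Prime → r ∣ n →
      ∀ u ∈ C g, (∃ e, orderOf u = r ^ e) → u ∈ center G := by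
    intro g hg hgc r hr hrn u hu hue
    by_contra huc
    refine hgc ?_
    have hku := hcore hr hrn hue huc
    have hgu : g ∈ C u := mem_C.2 (mem_C.1 hu).symm
    have h1 := Subgroup.pow_index_mem ((center G).subgroupOf (C u)) (⟨g, hgu⟩ : C u)
    rw [← Subgroup.relIndex, hrelm hku, Subgroup.mem_subgroupOf] at h1
    obtain ⟨i, hi⟩ := exists_pow_eq_self_of_coprime (x := g) (n := n) hg.symm
    rw [← hi]
    exact pow_mem (by simpa using h1) i
  have hkn : ∀ {g : G}, (orderOf g).Coprime n → g ∉ center G → k g = n := by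
    intro g hg hgc
    have hco : ((center G).relIndex (C g)).Coprime n := Nat.coprime_of_dvd fun r hr h1 h2 => by
      haveI := Fact.mk hr
      exact not_dvd_relIndex (fun u hu hue => hrcen hg hgc hr h2 u hu hue) h1
    have hdv : n ∣ k g := hco.symm.dvd_of_dvd_mul_left ⟨m, hrel g⟩
    have hne : k g ≠ m := fun e =>
      absurd (Nat.eq_one_of_dvd_coprimes S.hcop (e ▸ hdv) dvd_rfl) (by omega)
    exact le_antisymm (S.le_n hne) (Nat.le_of_dvd (k_pos g) hdv)
  -- the largest normal `n'`-subgroup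
  obtain ⟨M, ⟨hMn, hMco⟩, hMmax⟩ :=
    Set.Finite.exists_maximal (Set.toFinite {M : Subgroup G | M.Normal ∧ (Nat.card M).Coprime n})
      ⟨⊥, inferInstance, by rw [Subgroup.card_bot]; exact Nat.coprime_one_left n⟩
  haveI := hMn
  have hMmem : ∀ {g : G}, (orderOf g).Coprime n → g ∉ center G → g ∈ M := by
    intro g hg hgc
    obtain ⟨N, hNn, hgN, -, hNp⟩ := exists_abelian_normal
      (commute_conj_of_coprime S hx hy ((hkn hg hgc).symm ▸ S.hcop.symm))
    haveI := hNn
    have hNco : (Nat.card N).Coprime n := Nat.coprime_of_dvd fun r hr h1 h2 =>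
      hr.ne_one (Nat.eq_one_of_dvd_coprimes hg (hNp r hr h1) h2)
    have hle : N ⊔ M ≤ M := hMmax
      ⟨inferInstance, ((hNco.mul_left hMco).coprime_dvd_left
        (Solvable.card_sup_mul_card_inf (A := N) (K := M) (by
          rw [Subgroup.normalizer_eq_top M]; exact le_top) ▸ dvd_mul_right _ _))⟩ le_sup_right
    exact hle (mem_sup_left hgN)
  set K := M ⊔ center G with hK
  haveI hKn : K.Normal := inferInstance
  have hgK : ∀ {g : G}, (orderOf g).Coprime n → g ∈ K := fun {g} hg => by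
    by_cases hgc : g ∈ center G
    · exact mem_sup_right hgc
    · exact mem_sup_left (hMmem hg hgc)
  have hKrel : (center G).relIndex K ∣ m := by
    have h1 : (center G).relIndex K ∣ n * m := by
      rw [← hZidx, ← Subgroup.relIndex_mul_index (le_sup_right : center G ≤ K)]
      exact dvd_mul_right _ _
    refine Nat.Coprime.dvd_of_dvd_mul_left ?_ h1
    rw [hK, Subgroup.relIndex_sup_right]
    exact hMco.coprime_dvd_left (Subgroup.index_dvd_card _)
  have hCK : ∀ {g : G}, (orderOf g).Coprime n → g ∉ center G → C g = K := by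
    intro g hg hgc
    have hle : C g ≤ K := fun z hz => mem_of_parts fun r a hr ha ⟨e, he⟩ => by
      by_cases hrn : r ∣ n
      · exact mem_sup_right (hrcen hg hgc hr hrn a (zpowers_le.2 hz ha) ⟨e, he⟩)
      · exact hgK (he ▸ (hr.coprime_iff_not_dvd.2 hrn).pow_left e)
    refine Subgroup.eq_of_le_of_card_ge hle ?_
    have h1 := (C g).card_mul_index
    have h2 := K.card_mul_index
    rw [show (C g).index = n from hkn hg hgc] at h1
    have h3 := Subgroup.relIndex_mul_index (le_sup_right : center G ≤ K)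
    rw [hZidx] at h3
    have h4 : (center G).relIndex K ≤ m := Nat.le_of_dvd (by omega) hKrel
    have h5 : n ≤ K.index := by
      by_contra hlt
      have := Nat.mul_lt_mul_of_le_of_lt h4 (not_le.1 hlt) (by omega : 0 < m)
      rw [h3, mul_comm n m] at this
      exact lt_irrefl _ this
    by_contra hlt
    have := Nat.mul_lt_mul_of_lt_of_le (not_le.1 hlt) h5 Subgroup.index_ne_zero_of_finite.bot_lt
    rw [h1, h2] at this
    exact lt_irrefl _ this
  have hsc : s ∉ center G := fun hc => by have := k_of_center hc; omega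
  have hsn : (orderOf s).Coprime n := hsord.coprime_mul_right_right
  have hKx : C x = K := hCs ▸ hCK hsn hsc
  have hMcomm : ∀ a ∈ M, ∀ b ∈ K, Commute a b := by
    intro a ha b hb
    by_cases hac : a ∈ center G
    · exact (Subgroup.mem_center_iff.1 hac b).symm
    · exact mem_C.1 ((hCK (hMco.coprime_dvd_left (Subgroup.orderOf_dvd_natCard M ha)) hac).symm ▸ hb)
  have hxab : IsMulCommutative (C x) := by
    refine ⟨⟨fun a b => Subtype.ext ?_⟩⟩
    show (a : G) * b = b * a
    obtain ⟨a₁, ha₁, a₂, ha₂, ha⟩ := Subgroup.mem_sup_of_normal_right.1 (hKx ▸ a.2 : (a : G) ∈ K)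
    rw [← ha]
    exact ((hMcomm a₁ ha₁ b (hKx ▸ b.2)).mul_left (Subgroup.mem_center_iff.1 ha₂ b).symm).eq
  -- elements of `C y` of order prime to `n` are central
  have hHn' : ∀ {g : G}, g ∈ C y → (orderOf g).Coprime n → g ∈ center G := fun {g} hg hgo =>
    hXH g (hKx.symm ▸ hgK hgo) hg
  have hGfac : ∀ g : G, ∃ a ∈ C x, ∃ b ∈ C y, g = a * b := fun g =>
    CoprimeIndex.exists_mul_eq hxyco g
  haveI hxn : (C x).Normal := hKx.symm ▸ hKn
  -- `C y` is abelian
  have hyab : IsMulCommutative (C y) := by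
    by_contra hab
    refine hab ⟨⟨fun a b => Subtype.ext ?_⟩⟩
    show (a : G) * b = b * a
    refine ((mem_C.1 (mem_of_parts (H := C (b : G)) (g := (a : G)) fun r c hr hc hce => ?_)).symm).eq
    have hcy : c ∈ C y := zpowers_le.2 a.2 hc
    by_cases hcc : c ∈ center G
    · exact center_le_C _ hcc
    have hrq : r = q := by
      by_contra hrq
      exact hcc (hq'cen hab hr hce hrq hcy)
    subst hrq
    have hqn : r ∣ n := by
      by_contra hrn
      obtain ⟨e, he⟩ := hce
      exact hcc (hHn' hcy (he ▸ (hr.coprime_iff_not_dvd.2 hrn).pow_left e))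
    have hkc : k c = m := hcore hr hqn hce hcc
    -- every element of `C y` commutes with `c`
    refine mem_C.2 (mem_C.1 (show (b : G) ∈ C c from ?_)).symm
    refine mem_of_parts fun r' d hr' hd hde => ?_
    have hdy : d ∈ C y := zpowers_le.2 b.2 hd
    by_cases hdc : d ∈ center G
    · exact center_le_C _ hdc
    have hr'q : r' = r := by
      by_contra h
      exact hdc (hq'cen hab hr' hde h hdy)
    subst hr'q
    obtain ⟨Pc⟩ : Nonempty (Sylow r' (C c)) := inferInstance
    let P' : Sylow r' G := (Pc.2.map (C c).subtype).toSylow (fun h => by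
      rw [Subgroup.index_map_subtype] at h
      rcases hr'.dvd_mul.1 h with h' | h'
      · exact Pc.not_dvd_index h'
      · exact hnm_not hr' hqn (hkc ▸ h'))
    obtain ⟨eg, P, hPy, hgP⟩ := hconjH hr' hqn hde
    obtain ⟨g, hg⟩ := MulAction.exists_smul_eq G P P'
    obtain ⟨a₁, ha₁, b₁, hb₁, rfl⟩ := hGfac g
    -- `P` is normal in `C y`
    have hPnorm : ∀ z ∈ C y, ∀ v ∈ (P : Subgroup G), z * v * z⁻¹ ∈ (P : Subgroup G) := by
      intro z hz v hv
      have hPu : ∀ w ∈ C y, (∃ e, orderOf w = r' ^ e) → w ∈ (P : Subgroup G) := by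
        intro w hw ⟨e, he⟩
        have hw2 : w ∈ (P : Subgroup G) ⊔ center G := by
          refine (Subgroup.relIndex_eq_one.1 ?_ : C y ≤ (P : Subgroup G) ⊔ center G) hw
          refine Nat.eq_one_iff_not_exists_prime_dvd.2 fun p hp hd => ?_
          haveI := Fact.mk hp
          by_cases hpr : p = r'
          · subst hpr
            exact P.not_dvd_index (hd.trans
              ((Subgroup.relIndex_dvd_index_of_le (sup_le hPy (center_le_C y))).trans
                (Subgroup.index_dvd_of_le le_sup_left)))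
          · exact not_dvd_relIndex
              (fun u hu hue => mem_sup_right (hq'cen hab hp hue hpr hu)) hd
        obtain ⟨v, hv, c', hc', hvc⟩ := Subgroup.mem_sup_of_normal_right.1 hw2
        have hPn : (P : Subgroup G) ⊔ zpowers w ≤ normalizer ((P : Subgroup G) : Set G) := by
          refine sup_le le_normalizer (zpowers_le.2 ?_)
          rw [← hvc]
          exact mul_mem (le_normalizer hv) (Subgroup.center_le_normalizer _ hc')
        have hpg : IsPGroup r' (zpowers w ⊔ (P : Subgroup G) : Subgroup G) :=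
          (IsPGroup.of_card_dvd_pow (n := e) (by rw [Nat.card_zpowers, he])).to_sup_of_normal_right'
            P.2 (le_trans le_sup_right hPn)
        have := P.3 hpg le_sup_right
        exact this ▸ mem_sup_left (mem_zpowers w)
      obtain ⟨e, he⟩ := IsPGroup.iff_orderOf.1 P.2 ⟨v, hv⟩
      rw [Subgroup.orderOf_mk] at he
      refine hPu _ (mul_mem (mul_mem hz (hPy hv)) (inv_mem hz)) ⟨e, ?_⟩
      rw [← he, ← MulAut.conj_apply]
      exact (MulAut.conj z).orderOf_eq v
    have hcP : c ∈ (P' : Subgroup G) := by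
      have hcz : (⟨c, self_mem_C c⟩ : C c) ∈ (Pc : Subgroup (C c)) := by
        obtain ⟨e, he⟩ := hce
        have hp : IsPGroup r' (zpowers (⟨c, self_mem_C c⟩ : C c) ⊔ (Pc : Subgroup (C c)) : Subgroup _) :=
          (IsPGroup.of_card_dvd_pow (n := e) (by
            rw [Nat.card_zpowers, Subgroup.orderOf_mk, he])).to_sup_of_normal_right' Pc.2 (by
            refine zpowers_le.2 (Subgroup.mem_normalizer_iff.2 fun z => ?_)
            have hz : (⟨c, self_mem_C c⟩ : C c) * z * (⟨c, self_mem_C c⟩ : C c)⁻¹ = z :=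
              mul_inv_eq_iff_eq_mul.2 (Subtype.ext (mem_C.1 z.2).eq)
            rw [hz])
        exact Pc.3 hp le_sup_right ▸ mem_sup_left (mem_zpowers _)
      exact ⟨_, hcz, rfl⟩
    rw [← hg, Sylow.coe_subgroup_smul, Subgroup.mem_pointwise_smul_iff_inv_smul_mem,
      MulAut.smul_def, MulAut.inv_def, MulAut.conj_symm_apply] at hcP
    -- move everything by `a₁` only
    have hc' : a₁⁻¹ * c * a₁ ∈ (P : Subgroup G) := by
      have := hPnorm b₁ hb₁ _ hcP
      simpa [mul_assoc] using this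
    have hPa : ∀ v ∈ (P : Subgroup G), Commute (a₁⁻¹ * c * a₁) v := by
      intro v hv
      have hv' : b₁⁻¹ * v * b₁ ∈ (P : Subgroup G) := by
        simpa using hPnorm b₁⁻¹ (inv_mem hb₁) v hv
      have h1 : a₁ * b₁ * (b₁⁻¹ * v * b₁) * (a₁ * b₁)⁻¹ ∈ C c := by
        have h2 : a₁ * b₁ * (b₁⁻¹ * v * b₁) * (a₁ * b₁)⁻¹ ∈ ((a₁ * b₁) • P : Sylow r' G).1 := by
          rw [Sylow.coe_subgroup_smul, Subgroup.mem_pointwise_smul_iff_inv_smul_mem,
            MulAut.smul_def, MulAut.inv_def, MulAut.conj_symm_apply]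
          simpa [mul_assoc] using hv'
        rw [hg] at h2
        exact Subgroup.map_subtype_le _ h2
      have h3 := (mem_C.1 h1).map (MulAut.conj a₁⁻¹).toMonoidHom
      simpa [mul_assoc] using h3
    -- `c` and `a₁⁻¹ c a₁` differ by a central element
    have hdiff : (a₁⁻¹ * c * a₁)⁻¹ * c ∈ center G := by
      refine hXH _ ?_ (mul_mem (inv_mem (hPy hc')) hcy)
      rw [show (a₁⁻¹ * c * a₁)⁻¹ * c = a₁⁻¹ * (c⁻¹ * a₁ * c) by group]
      exact mul_mem (inv_mem ha₁) (by simpa using hxn.conj_mem a₁ ha₁ c⁻¹)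
    have hdP : d ∈ (P : Subgroup G) ⊔ center G := by
      have : C y ≤ (P : Subgroup G) ⊔ center G := by
        refine Subgroup.relIndex_eq_one.1 (Nat.eq_one_iff_not_exists_prime_dvd.2 fun p hp hd => ?_)
        haveI := Fact.mk hp
        by_cases hpr : p = r'
        · subst hpr
          exact P.not_dvd_index (hd.trans
            ((Subgroup.relIndex_dvd_index_of_le (sup_le hPy (center_le_C y))).trans
              (Subgroup.index_dvd_of_le le_sup_left)))
        · exact not_dvd_relIndex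
            (fun u hu hue => mem_sup_right (hq'cen hab hp hue hpr hu)) hd
      exact this hdy
    obtain ⟨v, hv, z, hz, rfl⟩ := Subgroup.mem_sup_of_normal_right.1 hdP
    refine mem_C.2 ?_
    have h4 : Commute c v := by
      have h5 := (hPa v hv).mul_left (Subgroup.mem_center_iff.1 hdiff v).symm
      rwa [mul_inv_cancel_left] at h5
    exact h4.mul_right (Subgroup.mem_center_iff.1 hz c)
  haveI := hyab
  -- centralizers of noncentral elements of `C y`
  have hH1 : ∀ {v : G}, v ∈ C y → v ∉ center G → C v = C y := by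
    intro v hv hvc
    have hle : C y ≤ C v := fun z hz =>
      mem_C.2 (congrArg Subtype.val (mul_comm' (⟨v, hv⟩ : C y) ⟨z, hz⟩))
    exact (C_eq_of_le hle (by rw [hy, hdvd_top (hy ▸ k_dvd hle) hvc])).symm
  have hyc : y ∉ center G := fun hc => by have := k_of_center hc; omega
  have hprim : ∀ {g : G}, g ∉ center G → g ∈ C y → ∃ (r : ℕ) (h : G), r.Prime ∧ r ∣ n ∧
      (∃ e, orderOf h = r ^ e) ∧ h ∈ C y ∧ h ∉ center G := by
    intro g hgc hg
    by_contra hnone
    push Not at hnone
    refine hgc (mem_of_parts fun r a hr ha ⟨e, he⟩ => ?_)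
    by_cases hrn : r ∣ n
    · exact hnone r a hr hrn ⟨e, he⟩ (zpowers_le.2 hg ha)
    · exact hHn' (zpowers_le.2 hg ha) (he ▸ (hr.coprime_iff_not_dvd.2 hrn).pow_left e)
  have hsurj := QuotientGroup.mk'_surjective (center G)
  set π := QuotientGroup.mk' (center G) with hπ
  have hcm : ∀ w : G, ((C w).map π).comap π = C w := fun w => Subgroup.comap_map_eq_self (by
    rw [hπ, QuotientGroup.ker_mk']; exact center_le_C w)
  have hmem : ∀ v w : G, π v ∈ (C w).map π ↔ v ∈ C w := fun v w =>
    iff_of_eq (congrArg (fun H : Subgroup G => v ∈ H) (hcm w))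
  have hfrob : Cfsg.IsFrobeniusComplement ((C y).map π) := by
    refine ⟨fun e => hyc ?_, fun e => ?_, fun g hg => ?_⟩
    · have := mem_map_of_mem π (self_mem_C y)
      rw [e, mem_bot] at this
      exact (QuotientGroup.eq_one_iff y).1 this
    · have : C y = ⊤ := by rw [← hcm y, e, comap_top]
      exact hyc (mem_center_of_k (by rw [k, this, Subgroup.index_top]))
    · obtain ⟨a, rfl⟩ := hsurj g
      rw [hmem] at hg
      refine (Subgroup.eq_bot_iff_forall _).2 fun z hz => ?_
      obtain ⟨v, rfl⟩ := hsurj z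
      obtain ⟨h1, h2⟩ := Subgroup.mem_inf.1 hz
      rw [Subgroup.mem_pointwise_smul_iff_inv_smul_mem, MulAut.smul_def, MulAut.inv_def,
        MulAut.conj_symm_apply, ← map_inv, ← map_mul, ← map_mul, hmem] at h2
      rw [hmem] at h1
      refine (QuotientGroup.eq_one_iff v).2 ?_
      by_contra hvc
      have hv' : a⁻¹ * v * a ∉ center G := fun hc => hvc (by
        simpa [mul_assoc] using (inferInstance : (center G).Normal).conj_mem _ hc a)
      -- `a` normalizes `C y`
      have hnorm : ∀ h ∈ C y, a * h * a⁻¹ ∈ C y := by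
        intro h hh
        rw [← hH1 h1 hvc]
        have h3 : h ∈ C (a⁻¹ * v * a) := (hH1 h2 hv').symm ▸ hh
        exact mem_C.2 (by simpa [mul_assoc] using (mem_C.1 h3).map (MulAut.conj a).toMonoidHom)
      obtain ⟨a₁, ha₁, b₁, hb₁, rfl⟩ := hGfac a
      obtain ⟨r, h0, hr, hrn, ⟨e, he⟩, hh0, hh0c⟩ := hprim hvc h1
      have hk1 : ∀ h ∈ C y, a₁ * h * a₁⁻¹ ∈ C y := fun h hh => by
        have := hnorm (b₁⁻¹ * h * b₁) (mul_mem (mul_mem (inv_mem hb₁) hh) hb₁)
        simpa [mul_assoc] using this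
      -- reduce `a₁` to its part in `M`
      obtain ⟨μ, hμ, z₁, hz₁, rfl⟩ := Subgroup.mem_sup_of_normal_right.1 (hKx ▸ ha₁ : a₁ ∈ K)
      have hμH : μ * h0 * μ⁻¹ ∈ C y := by
        have h4 : z₁ * h0 * z₁⁻¹ = h0 :=
          mul_inv_eq_iff_eq_mul.2 (Subgroup.mem_center_iff.1 hz₁ h0).symm
        have := hk1 h0 hh0
        rwa [show μ * z₁ * h0 * (μ * z₁)⁻¹ = μ * (z₁ * h0 * z₁⁻¹) * μ⁻¹ by group, h4] at this
      set c := μ * h0 * μ⁻¹ * h0⁻¹ with hc
      have hcZ : c ∈ center G := by
        refine hXH c ?_ (mul_mem hμH (inv_mem hh0))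
        rw [hc, show μ * h0 * μ⁻¹ * h0⁻¹ = μ * (h0 * μ⁻¹ * h0⁻¹) by group]
        have hμx : μ ∈ C x := hKx.symm ▸ mem_sup_left hμ
        exact mul_mem hμx (hxn.conj_mem _ (inv_mem hμx) h0)
      have hcc : ∀ z, Commute c z := fun z => (Subgroup.mem_center_iff.1 hcZ z).symm
      have hμn : (orderOf μ).Coprime n := hMco.coprime_dvd_left (Subgroup.orderOf_dvd_natCard M hμ)
      have hc1 : c = 1 := by
        refine orderOf_eq_one_iff.1 (Nat.eq_one_of_dvd_coprimes
          ((hμn.coprime_dvd_right hrn).pow_right e)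
          (orderOf_dvd_of_pow_eq_one ?_) (orderOf_dvd_of_pow_eq_one ?_))
        · have e1 : h0 * μ * h0⁻¹ = c⁻¹ * μ := by rw [hc]; group
          have e2 := congrArg (fun z => z ^ orderOf μ) e1
          simp only [conj_pow, (hcc μ).inv_left.mul_pow, inv_pow, pow_orderOf_eq_one, mul_one,
            mul_inv_cancel] at e2
          exact inv_eq_one.1 e2.symm
        · have e1 : μ * h0 * μ⁻¹ = c * h0 := by rw [hc]; group
          have e2 := congrArg (fun z => z ^ (r ^ e)) e1
          simp only [conj_pow, (hcc h0).mul_pow, ← he, pow_orderOf_eq_one, mul_one,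
            mul_inv_cancel] at e2
          rw [← he]
          exact e2.symm
      have hμy : μ ∈ C y := hH1 hh0 hh0c ▸ mem_C.2 (by
        rw [hc] at hc1
        exact (mul_inv_eq_iff_eq_mul.1 (mul_inv_eq_one.1 hc1)).symm)
      exact hg (mul_mem (mul_mem hμy (center_le_C y hz₁)) hb₁)
  refine ⟨hxab, hyab, hfrob, ?_⟩
  have hbar : ((C x).map π).Normal := hxn.map _ hsurj
  refine (Set.eq_of_subset_of_ncard_le ?_ ?_ (Set.toFinite _)).symm
  · intro z hz
    by_cases hz1 : z = 1
    · exact Or.inl hz1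
    refine Or.inr fun g hg => hz1 ?_
    rw [Subgroup.mem_pointwise_smul_iff_inv_smul_mem, MulAut.smul_def, MulAut.inv_def,
      MulAut.conj_symm_apply] at hg
    have h2 : g⁻¹ * z * g ∈ (C x).map π := by simpa using hbar.conj_mem z hz g⁻¹
    obtain ⟨v, hv, hvg⟩ := h2
    rw [← hvg, hmem] at hg
    have h3 : g⁻¹ * z * g = 1 := by
      rw [← hvg]
      exact (QuotientGroup.eq_one_iff v).2 (hXH v hv hg)
    calc z = g * (g⁻¹ * z * g) * g⁻¹ := by group
      _ = 1 := by rw [h3, mul_one, mul_inv_cancel]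
  · rw [← Nat.card_coe_set_eq, ← Nat.card_coe_set_eq, Frobenius.card_frobeniusKernel hfrob,
      Subgroup.index_map_eq _ hsurj (by rw [QuotientGroup.ker_mk']; exact center_le_C y),
      SetLike.coe_sort_coe]
    have h2 : Nat.card ((C x).map π) = (center G).relIndex (C x) := by
      have hf : (π.subgroupMap (C x)).ker = (center G).subgroupOf (C x) := by
        ext v
        rw [MonoidHom.mem_ker, Subgroup.mem_subgroupOf, Subtype.ext_iff]
        exact QuotientGroup.eq_one_iff _
      rw [Subgroup.relIndex, ← hf]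
      exact (Nat.card_congr (QuotientGroup.quotientKerEquivOfSurjective _
        (MonoidHom.subgroupMap_surjective π (C x))).toEquiv).symm
    rw [h2, show (C y).index = m from hy]
    have h3 := hrel x
    rw [show k x = n from hx, mul_comm n m] at h3
    exact (Nat.eq_of_mul_eq_mul_right (by omega) h3).ge

end CfsgLib.TwoLargest
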