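import Cfsg.Agent.FGSB.Small
import Cfsg.Agent.Solvable.CoprimeIndex
import Cfsg.Agent.Solvable.Basics
import Cfsg.Agent.Frobenius.Basic

/-!
Finite groups whose two largest class sizes are coprime.
-/

set_option autoImplicit false
set_option linter.style.haveILetI false
set_option linter.unusedSectionVars false

namespace CfsgLib.TwoLargest

open Subgroup

universe u

variable {G : Type u} [Group G]

/-- The centralizer of an element. -/
abbrev C (x : G) : Subgroup G := Subgroup.centralizer ({x} : Set G)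

theorem mem_C {x y : G} : y ∈ C x ↔ Commute x y :=
  Subgroup.mem_centralizer_singleton_iff.trans ⟨Eq.symm, Eq.symm⟩

theorem self_mem_C (x : G) : x ∈ C x := mem_C.2 (Commute.refl x)

/-- The size of the class of an element. -/
noncomputable abbrev k (x : G) : ℕ := (C x).index

/-- The class of an element. -/
def Cl (a : G) : Set G := Set.range fun g : G => g * a * g⁻¹

theorem mem_center_of_k {a : G} (h : k a = 1) : a ∈ center G := by
  refine Subgroup.mem_center_iff.2 fun g => ?_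
  exact (mem_C.1 ((Subgroup.index_eq_one.1 h) ▸ mem_top g : g ∈ C a)).eq.symm

theorem k_of_center {a : G} (h : a ∈ center G) : k a = 1 :=
  Subgroup.index_eq_one.2 (eq_top_iff.2 fun g _ => mem_C.2 (Subgroup.mem_center_iff.1 h g).symm)

variable [Finite G]

theorem ncard_Cl (a : G) : (Cl a).ncard = k a := by
  classical
  rw [← Nat.card_coe_set_eq]
  show _ = Nat.card (G ⧸ C a)
  let f : G ⧸ C a → Cl a := fun q => Quotient.liftOn' q (fun g => ⟨g * a * g⁻¹, g, rfl⟩) (by
    intro g h hgh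
    rw [QuotientGroup.leftRel_apply] at hgh
    refine Subtype.ext ?_
    show g * a * g⁻¹ = h * a * h⁻¹
    have e := (mem_C.1 hgh).eq
    calc g * a * g⁻¹ = g * (a * (g⁻¹ * h)) * h⁻¹ := by group
      _ = g * ((g⁻¹ * h) * a) * h⁻¹ := by rw [e]
      _ = h * a * h⁻¹ := by group)
  refine (Nat.card_congr (Equiv.ofBijective f ⟨?_, ?_⟩)).symm
  · intro q r
    refine Quotient.inductionOn₂' q r fun g h e => ?_
    have e' : g * a * g⁻¹ = h * a * h⁻¹ := congrArg Subtype.val e
    refine Quotient.sound' ?_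
    rw [QuotientGroup.leftRel_apply]
    refine mem_C.2 ?_
    show a * (g⁻¹ * h) = g⁻¹ * h * a
    calc a * (g⁻¹ * h) = g⁻¹ * (g * a * g⁻¹) * h := by group
      _ = g⁻¹ * (h * a * h⁻¹) * h := by rw [e']
      _ = g⁻¹ * h * a := by group
  · rintro ⟨_, g, rfl⟩
    exact ⟨QuotientGroup.mk g, rfl⟩

theorem k_conj (a g : G) : k (g * a * g⁻¹) = k a := by
  rw [← ncard_Cl, ← ncard_Cl]
  congr 1
  ext v
  constructor
  · rintro ⟨c, rfl⟩
    exact ⟨c * g, by group⟩
  · rintro ⟨c, rfl⟩
    exact ⟨c * g⁻¹, by group⟩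

theorem k_pos (a : G) : 0 < k a := Nat.pos_of_ne_zero Subgroup.index_ne_zero_of_finite

theorem k_dvd {a b : G} (h : C a ≤ C b) : k b ∣ k a := Subgroup.index_dvd_of_le h

theorem C_eq_of_le {a b : G} (h : C a ≤ C b) (hk : k a ≤ k b) : C a = C b := by
  refine Subgroup.eq_of_le_of_card_ge h ?_
  have h1 := (C a).card_mul_index
  have h2 := (C b).card_mul_index
  have h3 := k_pos a
  rw [← h2] at h1
  by_contra hlt
  have := Nat.mul_lt_mul_of_lt_of_le (not_le.1 hlt) hk (k_pos b)
  exact absurd h1 this.ne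

theorem C_mul {a b : G} (hb : Commute a b) (hco : (orderOf a).Coprime (orderOf b)) :
    C (a * b) = C a ⊓ C b := by
  obtain ⟨i, l⟩ := Nat.chineseRemainder hco 1 0
  have hpa : (a * b) ^ i = a := by
    rw [hb.mul_pow, ← pow_mod_orderOf b i, show i % orderOf b = 0 from l.2, pow_zero, mul_one]
    conv_rhs => rw [← pow_one a]
    exact pow_eq_pow_iff_modEq.2 l.1
  refine le_antisymm (fun z hz => ?_) fun z hz => ?_
  · have h1 : Commute a z := hpa ▸ (mem_C.1 hz).pow_left i
    refine Subgroup.mem_inf.2 ⟨mem_C.2 h1, mem_C.2 ?_⟩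
    have h2 := h1.inv_left.mul_left (mem_C.1 hz)
    rwa [inv_mul_cancel_left] at h2
  · obtain ⟨h1, h2⟩ := Subgroup.mem_inf.1 hz
    exact mem_C.2 ((mem_C.1 h1).mul_left (mem_C.1 h2))

theorem k_dvd_mul_left {a b : G} (hb : Commute a b) (hco : (orderOf a).Coprime (orderOf b)) :
    k a ∣ k (a * b) :=
  k_dvd (C_mul hb hco ▸ inf_le_left)

theorem k_dvd_mul_right {a b : G} (hb : Commute a b) (hco : (orderOf a).Coprime (orderOf b)) :
    k b ∣ k (a * b) :=
  k_dvd (C_mul hb hco ▸ inf_le_right)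

/-- Membership is detected on the prime power parts. -/
theorem mem_of_parts {H : Subgroup G} {g : G}
    (hp : ∀ (r : ℕ) (a : G), r.Prime → a ∈ zpowers g → (∃ e, orderOf a = r ^ e) → a ∈ H) :
    g ∈ H := by
  suffices key : ∀ N, ∀ g : G, orderOf g = N →
      (∀ (r : ℕ) (a : G), r.Prime → a ∈ zpowers g → (∃ e, orderOf a = r ^ e) → a ∈ H) → g ∈ H from
    key _ g rfl hp
  intro N
  induction N using Nat.strong_induction_on with
  | _ N ih =>
    intro g hN hp
    by_cases hg : orderOf g = 1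
    · rw [orderOf_eq_one_iff.1 hg]; exact one_mem _
    obtain ⟨r, hr, hrd⟩ := Nat.exists_prime_and_dvd hg
    obtain ⟨a, b, hab, ha, hb, hae, hbr⟩ := FGSBSmall.exists_prime_split hr g
    rw [← hab]
    refine mul_mem (hp r a hr ha hae) (ih (orderOf b) ?_ b rfl fun r' c hr' hc he =>
      hp r' c hr' (zpowers_le.2 hb hc) he)
    rw [← hN]
    refine lt_of_le_of_ne (Nat.le_of_dvd (orderOf_pos g) (orderOf_dvd_of_mem_zpowers hb)) fun e => ?_
    rw [e] at hbr
    exact hr.ne_one (Nat.eq_one_of_dvd_coprimes hbr hrd dvd_rfl)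

/-- If all `r`-elements of `B` lie in `A` then `r` is prime to `[B : A]`. -/
theorem not_dvd_relIndex {r : ℕ} [Fact r.Prime] {A B : Subgroup G}
    (hAB : ∀ u ∈ B, (∃ e, orderOf u = r ^ e) → u ∈ A) : ¬ r ∣ A.relIndex B := by
  obtain ⟨P⟩ : Nonempty (Sylow r B) := inferInstance
  intro hd
  refine P.not_dvd_index (hd.trans (Subgroup.index_dvd_of_le fun v hv => ?_))
  rw [Subgroup.mem_subgroupOf]
  obtain ⟨e, he⟩ := IsPGroup.iff_orderOf.1 P.2 ⟨v, hv⟩
  exact hAB v v.2 ⟨e, by rw [Subgroup.orderOf_coe, ← he]; exact (Subgroup.orderOf_mk v hv).symm⟩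

theorem center_le_C (a : G) : center G ≤ C a := Subgroup.center_le_centralizer _

/-- Coprime class sizes: products of conjugates are conjugate to the product. -/
theorem conj_mul_conj {a b : G} (hco : (k a).Coprime (k b)) (g h : G) :
    ∃ c : G, c * (a * b) * c⁻¹ = (g * a * g⁻¹) * (h * b * h⁻¹) := by
  obtain ⟨α, hα, β, hβ, e⟩ := CoprimeIndex.exists_mul_eq (H := C a) (K := C b) hco (g⁻¹ * h)
  refine ⟨g * α, ?_⟩
  have hh : h = g * (α * β) := by rw [← e, mul_inv_cancel_left]
  have hb' : β * b * β⁻¹ = b := mul_inv_eq_iff_eq_mul.2 (mem_C.1 hβ).eq.symm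
  have ha' : α * a * α⁻¹ = a := mul_inv_eq_iff_eq_mul.2 (mem_C.1 hα).eq.symm
  calc g * α * (a * b) * (g * α)⁻¹ = g * (α * a * α⁻¹) * α * b * α⁻¹ * g⁻¹ := by group
    _ = g * a * α * (β * b * β⁻¹) * α⁻¹ * g⁻¹ := by rw [ha', hb']
    _ = g * a * g⁻¹ * (g * (α * β) * b * (g * (α * β))⁻¹) := by group
    _ = (g * a * g⁻¹) * (h * b * h⁻¹) := by rw [← hh]

/-- If the class of `ab` is no larger than that of `b`, the normal subgroup `[a,G]` stabilizes the
class of `b`; it centralizes `a`. -/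
theorem exists_stabilizer {a b : G} (hco : (k a).Coprime (k b)) (hle : k (a * b) ≤ k b) :
    ∃ T : Subgroup G, (∀ g : G, a⁻¹ * (g * a * g⁻¹) ∈ T) ∧ Nat.card T ∣ k b ∧ T ≤ C a ∧
      ∀ t ∈ T, ∀ v ∈ Cl b, t * v ∈ Cl b := by
  classical
  set T := closure (Set.range fun g : G => a⁻¹ * (g * a * g⁻¹)) with hT
  have hgen : ∀ g : G, a⁻¹ * (g * a * g⁻¹) ∈ T := fun g => subset_closure ⟨g, rfl⟩
  have him : ∀ g : G, (fun v => g * a * g⁻¹ * v) '' Cl b = Cl (a * b) := by
    intro g
    refine Set.eq_of_subset_of_ncard_le ?_ ?_ (Set.toFinite _)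
    · rintro _ ⟨_, ⟨h, rfl⟩, rfl⟩
      obtain ⟨c, hc⟩ := conj_mul_conj hco g h
      exact ⟨c, hc⟩
    · rw [Set.ncard_image_of_injective _ (mul_right_injective _), ncard_Cl, ncard_Cl]
      exact hle
  have hstab : ∀ t ∈ T, ∀ v ∈ Cl b, t * v ∈ Cl b := by
    intro t ht
    induction ht using closure_induction with
    | mem t ht =>
      obtain ⟨g, rfl⟩ := ht
      intro v hv
      have h1 : g * a * g⁻¹ * v ∈ (fun v => (1 : G) * a * 1⁻¹ * v) '' Cl b := by
        rw [him 1, ← him g]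
        exact ⟨v, hv, rfl⟩
      obtain ⟨w, hw, hwv⟩ := h1
      have : a⁻¹ * (g * a * g⁻¹) * v = w := by
        rw [mul_assoc a⁻¹, ← hwv]; group
      exact this ▸ hw
    | one => intro v hv; rwa [one_mul]
    | mul s t _ _ ihs iht => intro v hv; rw [mul_assoc]; exact ihs _ (iht v hv)
    | inv t _ ih =>
      intro v hv
      have hsurj : Set.SurjOn (fun w => t * w) (Cl b) (Cl b) :=
        ((Set.toFinite (Cl b)).injOn_iff_bijOn_of_mapsTo (fun w hw => ih w hw)).1
          (mul_right_injective t).injOn |>.surjOn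
      obtain ⟨w, hw, rfl⟩ := hsurj hv
      simpa using hw
  have hn : T.Normal := ⟨fun t ht g => by
    induction ht using closure_induction with
    | mem t ht =>
      obtain ⟨h, rfl⟩ := ht
      have : g * (a⁻¹ * (h * a * h⁻¹)) * g⁻¹ =
          (a⁻¹ * (g * a * g⁻¹))⁻¹ * (a⁻¹ * (g * h * a * (g * h)⁻¹)) := by group
      rw [this]
      exact mul_mem (inv_mem (hgen g)) (hgen _)
    | one => simp
    | mul s t _ _ ihs iht =>
      rw [show g * (s * t) * g⁻¹ = (g * s * g⁻¹) * (g * t * g⁻¹) by group]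
      exact mul_mem ihs iht
    | inv t _ ih =>
      rw [show g * t⁻¹ * g⁻¹ = (g * t * g⁻¹)⁻¹ by group]
      exact inv_mem ih⟩
  have hdvd : Nat.card T ∣ k b := by
    set S : Set G := (fun v => v⁻¹) '' Cl b
    have hS : QuotientGroup.mk ⁻¹' ((QuotientGroup.mk : G → G ⧸ T) '' S) = S := by
      refine Set.Subset.antisymm ?_ (Set.subset_preimage_image _ _)
      rintro w ⟨_, ⟨v, hv, rfl⟩, he⟩
      refine ⟨w⁻¹, ?_, inv_inv w⟩
      have h1 := hstab _ (inv_mem (QuotientGroup.eq.1 he)) v hv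
      rwa [show (v⁻¹⁻¹ * w)⁻¹ * v = w⁻¹ by group] at h1
    have h1 := Nat.card_congr (QuotientGroup.preimageMkEquivSubgroupProdSet T
      ((QuotientGroup.mk : G → G ⧸ T) '' S))
    rw [hS, Nat.card_prod, Nat.card_coe_set_eq, Set.ncard_image_of_injective _ inv_injective,
      ncard_Cl] at h1
    exact ⟨_, h1⟩
  refine ⟨T, hgen, hdvd, ?_, hstab⟩
  haveI := hn
  refine Subgroup.relIndex_eq_one.1 ?_
  have h1 : (C a).relIndex T ∣ Nat.card T := Subgroup.index_dvd_card _
  have h2 : (C a).relIndex T ∣ k a := by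
    have h3 := Solvable.card_sup_mul_card_inf (A := C a) (K := T) (by
      rw [Subgroup.normalizer_eq_top T]; exact le_top)
    have h4 := ((C a ⊓ T).subgroupOf T).card_mul_index
    rw [Nat.card_congr (Subgroup.subgroupOfEquivOfLe inf_le_right).toEquiv, ← Subgroup.relIndex,
      Subgroup.inf_relIndex_right] at h4
    rw [← h4, mul_comm (Nat.card ↥(C a)), mul_assoc,
      mul_comm (Nat.card ↥(C a ⊔ T)) (Nat.card ↥(C a ⊓ T))] at h3
    have h5 : Nat.card ↥(C a ⊔ T) = (C a).relIndex T * Nat.card ↥(C a) :=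
      Nat.eq_of_mul_eq_mul_left Nat.card_pos h3
    obtain ⟨c, hc⟩ := Subgroup.card_subgroup_dvd_card (C a ⊔ T)
    rw [h5, ← (C a).card_mul_index, mul_comm _ (Nat.card ↥(C a)), mul_assoc] at hc
    exact ⟨c, Nat.eq_of_mul_eq_mul_left Nat.card_pos hc⟩
  exact Nat.eq_one_of_dvd_coprimes hco h2 (h1.trans hdvd)

theorem commute_conj {a b : G} (hco : (k a).Coprime (k b)) (hle : k (a * b) ≤ k b) (g : G) :
    Commute a (g * a * g⁻¹) := by
  obtain ⟨T, hgen, -, hTC, -⟩ := exists_stabilizer hco hle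
  have := (Commute.refl a).mul_right (mem_C.1 (hTC (hgen g)))
  rwa [mul_inv_cancel_left] at this

theorem central_of_coprime {a b : G} (hco : (k a).Coprime (k b)) (hle : k (a * b) ≤ k b)
    (ho : (orderOf a).Coprime (k b)) : a ∈ center G := by
  obtain ⟨T, hgen, hdvd, hTC, -⟩ := exists_stabilizer hco hle
  refine Subgroup.mem_center_iff.2 fun g => ?_
  set t := a⁻¹ * (g * a * g⁻¹) with ht
  have h1 : g * a * g⁻¹ = a * t := by rw [ht, mul_inv_cancel_left]
  have h2 : t ^ orderOf a = 1 := by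
    have h3 := congrArg (fun z => z ^ orderOf a) h1
    have hc : Commute a t := mem_C.1 (hTC (hgen g))
    simp only [conj_pow, hc.mul_pow, pow_orderOf_eq_one, mul_one, mul_inv_cancel, one_mul] at h3
    exact h3.symm
  have h4 : t = 1 := orderOf_eq_one_iff.1 (Nat.eq_one_of_dvd_coprimes ho
    (orderOf_dvd_of_pow_eq_one h2) ((Subgroup.orderOf_dvd_natCard T (hgen g)).trans hdvd))
  rw [h4, mul_one] at h1
  exact mul_inv_eq_iff_eq_mul.1 h1

/-- An element commuting with its conjugates lies in an abelian normal subgroup of the same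
exponent. -/
theorem exists_abelian_normal {a : G} (hcc : ∀ g : G, Commute a (g * a * g⁻¹)) :
    ∃ N : Subgroup G, N.Normal ∧ a ∈ N ∧ IsMulCommutative N ∧
      ∀ r : ℕ, r.Prime → r ∣ Nat.card N → r ∣ orderOf a := by
  classical
  set N := normalClosure ({a} : Set G) with hN
  have hgen : ∀ v ∈ Group.conjugatesOfSet ({a} : Set G), ∃ g : G, g * a * g⁻¹ = v := by
    intro v hv
    rw [Group.mem_conjugatesOfSet_iff] at hv
    obtain ⟨b, rfl, hb⟩ := hv
    exact isConj_iff.1 hb
  haveI hc : IsMulCommutative N := by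
    refine Subgroup.isMulCommutative_closure fun v hv w hw => ?_
    obtain ⟨g, rfl⟩ := hgen v hv
    obtain ⟨h, rfl⟩ := hgen w hw
    have := (hcc (g⁻¹ * h)).map (MulAut.conj g).toMonoidHom
    simpa [mul_assoc] using this.eq
  refine ⟨N, normalClosure_normal, subset_normalClosure rfl, hc, fun r hr hd => ?_⟩
  haveI := Fact.mk hr
  obtain ⟨⟨v, hv⟩, hvo⟩ := exists_prime_orderOf_dvd_card' (G := N) r hd
  rw [Subgroup.orderOf_mk] at hvo
  rw [← hvo]
  refine orderOf_dvd_of_pow_eq_one ?_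
  have : ∀ w, ∀ hw : w ∈ N, w ^ orderOf a = 1 := by
    intro w hw
    induction hw using closure_induction with
    | mem w hw =>
      obtain ⟨g, rfl⟩ := hgen w hw
      rw [conj_pow, pow_orderOf_eq_one, mul_one, mul_inv_cancel]
    | one => exact one_pow _
    | mul s t hs ht ihs iht =>
      have hst : Commute s t := congrArg Subtype.val (mul_comm' (⟨s, hs⟩ : N) ⟨t, ht⟩)
      rw [hst.mul_pow, ihs, iht, one_mul]
    | inv t _ ih => rw [inv_pow, ih, inv_one]
  exact this v hv

end CfsgLib.TwoLargest
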